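import Groth.Agent.L14.BorelLoc.ConjTools
import Groth.Agent.L25.Locus.Conjugacy
import Groth.Agent.L15.TypeRLe.Global

/-!
Conjugation by a point over a base, seen over that base and seen over `S`.
-/

set_option autoImplicit false
set_option linter.style.haveILetI false
set_option linter.unusedSectionVars false
set_option backward.isDefEq.respectTransparency.types false
set_option maxHeartbeats 1000000
universe u

open CategoryTheory CategoryTheory.Limits AlgebraicGeometry MonoidalCategory CartesianMonoidalCategory MonObj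
open Groth.L25 Groth.L14 Groth.L15.TypeRLe

noncomputable section

namespace Groth.L15.TypeRConj

variable {S V : Scheme.{u}} (f : V ⟶ S) {G H H' : Over S} [GrpObj G] (i : H ⟶ G) (i' : H' ⟶ G)

theorem toBase_inv {Y : Over V} (z : Y ⟶ Red.bc f G) : NilAction.toBase f z⁻¹ = (NilAction.toBase f z)⁻¹ :=
  map_inv (MonoidHom.mk' (NilAction.toBase f : (Y ⟶ Red.bc f G) → _) (NilAction.toBase_mul f)) z

/-- a point of `Y.left` over `f` seen in the trivial object -/
def ptOver (Y : Over V) : Over.mk (Y.hom ≫ f) ⟶ Over.mk f := Over.homMk Y.hom rfl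

theorem toBase_conj (g : Over.mk f ⟶ G) (Y : Over V) (c : Y ⟶ Red.bc f G) :
    NilAction.toBase f ((toUnit Y ≫ Groth.L25.Locus.sectionOf f g) * c * (toUnit Y ≫ Groth.L25.Locus.sectionOf f g)⁻¹) =
      (ptOver f Y ≫ g) * NilAction.toBase f c * (ptOver f Y ≫ g)⁻¹ := by
  rw [NilAction.toBase_mul, NilAction.toBase_mul, toBase_inv, Groth.L25.Locus.toBase_sectionOf]
  rfl

variable {f i i'}

/-- conjugation seen over the base -/
theorem conjEq_sectionOf {g : Over.mk f ⟶ G} (h : RedSub.ConjEq i i' g) :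
    RedSub.ConjEq ((Over.pullback f).map i) ((Over.pullback f).map i') (Groth.L25.Locus.sectionOf f g) := by
  intro X x
  obtain rfl : x = toUnit X := toUnit_unique _ _
  refine ⟨fun a => ?_, fun a => ?_⟩
  · obtain ⟨c, hc⟩ := (h _ (ptOver f X)).1 (NilAction.toBase f a)
    refine ⟨NilAction.ofBase f c, Luna.SemiRank.toBase_inj f ?_⟩
    rw [toBase_conj, RankOne.toBase_comp_map, RankOne.toBase_comp_map, NilAction.toBase_ofBase, ← hc]
  · obtain ⟨c, hc⟩ := (h _ (ptOver f X)).2 (NilAction.toBase f a)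
    refine ⟨NilAction.ofBase f c, Luna.SemiRank.toBase_inj f ?_⟩
    rw [RankOne.toBase_comp_map, NilAction.toBase_ofBase, ← hc, NilAction.toBase_mul, NilAction.toBase_mul,
      toBase_inv, RankOne.toBase_comp_map, Groth.L25.Locus.toBase_sectionOf]
    rfl

variable (f) in
/-- a section over the base as a point over `S` -/
def pointOf (g : 𝟙_ _ ⟶ Red.bc f G) : Over.mk f ⟶ G :=
  (Over.homMk (𝟙 _) (by
    show 𝟙 _ ≫ 𝟙 _ ≫ f = f
    rw [Category.id_comp, Category.id_comp]) : Over.mk f ⟶ Over.mk ((𝟙_ (Over V)).hom ≫ f)) ≫ NilAction.toBase f g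

/-- conjugation seen over `S` -/
theorem conjEq_pointOf {g : 𝟙_ _ ⟶ Red.bc f G}
    (h : RedSub.ConjEq ((Over.pullback f).map i) ((Over.pullback f).map i') g) :
    RedSub.ConjEq i i' (pointOf f g) := by
  let e : Over.mk f ⟶ Over.mk ((𝟙_ (Over V)).hom ≫ f) := Over.homMk (𝟙 _) (by
    show 𝟙 _ ≫ 𝟙 _ ≫ f = f
    rw [Category.id_comp, Category.id_comp])
  intro X x
  show (∀ a, ∃ c, (x ≫ e ≫ NilAction.toBase f g) * (a ≫ i) * (x ≫ e ≫ NilAction.toBase f g)⁻¹ = c ≫ i') ∧
    ∀ a, ∃ c, (x ≫ e ≫ NilAction.toBase f g)⁻¹ * (a ≫ i') * (x ≫ e ≫ NilAction.toBase f g) = c ≫ i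
  let Y : Over V := Over.mk x.left
  let ε : X ≅ Over.mk (Y.hom ≫ f) :=
    Over.isoMk (Iso.refl _) (by show 𝟙 _ ≫ x.left ≫ f = _; rw [Category.id_comp]; exact Over.w x)
  have hg : ε.inv ≫ x ≫ e ≫ NilAction.toBase f g = NilAction.toBase f (toUnit Y ≫ g) := by
    rw [CentralLift.toBase_comp, ← Category.assoc x, ← Category.assoc]
    congr 1
  refine ⟨fun a => ?_, fun a => ?_⟩
  · obtain ⟨c, hc⟩ := (h _ (toUnit Y)).1 (NilAction.ofBase f (ε.inv ≫ a))
    refine ⟨ε.hom ≫ NilAction.toBase f c, ?_⟩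
    have e1 := congrArg (NilAction.toBase f) hc
    rw [NilAction.toBase_mul, NilAction.toBase_mul, toBase_inv, RankOne.toBase_comp_map, RankOne.toBase_comp_map,
      NilAction.toBase_ofBase, ← hg] at e1
    have e2 := congrArg (ε.hom ≫ ·) e1
    simpa only [MonObj.comp_mul, GrpObj.comp_inv, Category.assoc, Iso.hom_inv_id_assoc] using e2
  · obtain ⟨c, hc⟩ := (h _ (toUnit Y)).2 (NilAction.ofBase f (ε.inv ≫ a))
    refine ⟨ε.hom ≫ NilAction.toBase f c, ?_⟩
    have e1 := congrArg (NilAction.toBase f) hc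
    rw [NilAction.toBase_mul, NilAction.toBase_mul, toBase_inv, RankOne.toBase_comp_map, RankOne.toBase_comp_map,
      NilAction.toBase_ofBase, ← hg] at e1
    have e2 := congrArg (ε.hom ≫ ·) e1
    simpa only [MonObj.comp_mul, GrpObj.comp_inv, Category.assoc, Iso.hom_inv_id_assoc] using e2

/-- conjugation by a point over the base -/
theorem conjEq_ofBase {Y : Over V} {g : Over.mk (Y.hom ≫ f) ⟶ G} (h : RedSub.ConjEq i i' g) :
    RedSub.ConjEq ((Over.pullback f).map i) ((Over.pullback f).map i') (NilAction.ofBase f g) := by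
  intro X x
  let x' : Over.mk (X.hom ≫ f) ⟶ Over.mk (Y.hom ≫ f) :=
    Over.homMk x.left (by show x.left ≫ Y.hom ≫ f = X.hom ≫ f; rw [← Category.assoc, Over.w x])
  have e : NilAction.toBase f (x ≫ NilAction.ofBase f g) = x' ≫ g := by
    rw [CentralLift.toBase_comp, NilAction.toBase_ofBase]
  refine ⟨fun a => ?_, fun a => ?_⟩
  · obtain ⟨c, hc⟩ := (h _ x').1 (NilAction.toBase f a)
    refine ⟨NilAction.ofBase f c, Luna.SemiRank.toBase_inj f ?_⟩
    rw [RankOne.toBase_comp_map, NilAction.toBase_ofBase, NilAction.toBase_mul, NilAction.toBase_mul, toBase_inv,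
      RankOne.toBase_comp_map, e, ← hc]
  · obtain ⟨c, hc⟩ := (h _ x').2 (NilAction.toBase f a)
    refine ⟨NilAction.ofBase f c, Luna.SemiRank.toBase_inj f ?_⟩
    rw [RankOne.toBase_comp_map, NilAction.toBase_ofBase, NilAction.toBase_mul, NilAction.toBase_mul, toBase_inv,
      RankOne.toBase_comp_map, e, ← hc]

variable (f i i')

/-- containment, over a base, of a conjugate of `H` in `H'` -/
theorem le_of_conj [GrpObj H] [GrpObj H'] [IsMonHom i] [IsMonHom i'] {W : Scheme.{u}} {z : W ⟶ V}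
    (g : Over.mk f ⟶ G)
    (h : RedSub.ConjEq i i' ((Over.homMk z rfl : Over.mk (z ≫ f) ⟶ Over.mk f) ≫ g)) :
    Le ((Over.pullback f).map i ≫ Chev.inner (Groth.L25.Locus.sectionOf f g)) ((Over.pullback f).map i') z ∧
      Le ((Over.pullback f).map i') ((Over.pullback f).map i ≫ Chev.inner (Groth.L25.Locus.sectionOf f g)) z := by
  refine ⟨fun X ⟨φ, hφ⟩ x => ?_, fun X ⟨φ, hφ⟩ x => ?_⟩
  all_goals
    let p : Over.mk (X.hom ≫ f) ⟶ Over.mk (z ≫ f) :=
      Over.homMk φ (by show φ ≫ z ≫ f = X.hom ≫ f; rw [← Category.assoc, hφ])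
    have hp : p ≫ (Over.homMk z rfl : Over.mk (z ≫ f) ⟶ Over.mk f) = ptOver f X := Over.OverMorphism.ext hφ
  · obtain ⟨c, hc⟩ := (h _ p).1 (NilAction.toBase f x)
    refine ⟨NilAction.ofBase f c, Luna.SemiRank.toBase_inj f ?_⟩
    rw [RankOne.toBase_comp_map, NilAction.toBase_ofBase, ← hc, ← Category.assoc x, Chev.comp_inner, toBase_conj,
      RankOne.toBase_comp_map, ← Category.assoc p, hp]
  · obtain ⟨c, hc⟩ := (h _ p).2 (NilAction.toBase f x)
    refine ⟨NilAction.ofBase f c, Luna.SemiRank.toBase_inj f ?_⟩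
    rw [← Category.assoc, Chev.comp_inner, toBase_conj, RankOne.toBase_comp_map, NilAction.toBase_ofBase, ← hc,
      RankOne.toBase_comp_map, ← Category.assoc p, hp]
    group

/-- the converse -/
theorem conj_of_le [GrpObj H] [GrpObj H'] [IsMonHom i] [IsMonHom i'] {W : Scheme.{u}} {z : W ⟶ V}
    (g : Over.mk f ⟶ G)
    (h1 : Le ((Over.pullback f).map i ≫ Chev.inner (Groth.L25.Locus.sectionOf f g)) ((Over.pullback f).map i') z)
    (h2 : Le ((Over.pullback f).map i') ((Over.pullback f).map i ≫ Chev.inner (Groth.L25.Locus.sectionOf f g)) z) :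
    RedSub.ConjEq i i' ((Over.homMk z rfl : Over.mk (z ≫ f) ⟶ Over.mk f) ≫ g) := by
  intro X x
  let Y : Over V := Over.mk (x.left ≫ z)
  let ε : X ≅ Over.mk (Y.hom ≫ f) :=
    Over.isoMk (Iso.refl _) (by show 𝟙 _ ≫ (x.left ≫ z) ≫ f = _; rw [Category.id_comp, Category.assoc]; exact Over.w x)
  have hx : ε.inv ≫ x ≫ (Over.homMk z rfl : Over.mk (z ≫ f) ⟶ Over.mk f) = ptOver f Y :=
    Over.OverMorphism.ext (Category.id_comp _)
  refine ⟨fun a => ?_, fun a => ?_⟩
  · obtain ⟨c, hc⟩ := h1 Y ⟨x.left, rfl⟩ (NilAction.ofBase f (ε.inv ≫ a))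
    refine ⟨ε.hom ≫ NilAction.toBase f c, ?_⟩
    have e1 := congrArg (NilAction.toBase f) hc
    rw [← Category.assoc (NilAction.ofBase f _), Chev.comp_inner, toBase_conj, RankOne.toBase_comp_map,
      RankOne.toBase_comp_map, NilAction.toBase_ofBase, ← hx] at e1
    have e2 := congrArg (ε.hom ≫ ·) e1.symm
    simpa only [MonObj.comp_mul, GrpObj.comp_inv, Category.assoc, Iso.hom_inv_id_assoc] using e2
  · obtain ⟨c, hc⟩ := h2 Y ⟨x.left, rfl⟩ (NilAction.ofBase f (ε.inv ≫ a))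
    refine ⟨ε.hom ≫ NilAction.toBase f c, ?_⟩
    have e1 := congrArg (NilAction.toBase f) hc
    rw [← Category.assoc c, Chev.comp_inner, toBase_conj, RankOne.toBase_comp_map, RankOne.toBase_comp_map,
      NilAction.toBase_ofBase, ← hx] at e1
    have e2 := congrArg (ε.hom ≫ ·) e1
    simp only [MonObj.comp_mul, GrpObj.comp_inv, Category.assoc, Iso.hom_inv_id_assoc] at e2 ⊢
    rw [← e2]
    group

end Groth.L15.TypeRConj

end
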