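import Groth.Agent.L15.TypeRConj.Torus
import Groth.Agent.L15.TypeRConj.Pts
import Groth.Agent.L15.Killing.Main
import Groth.Agent.S3006
import Groth.Agent.S4116

/-!
Subgroups of type (R) whose geometric fibres are conjugate are conjugate etale locally.
-/

set_option autoImplicit false
set_option linter.style.haveILetI false
set_option linter.unusedSectionVars false
set_option backward.isDefEq.respectTransparency.types false
set_option maxHeartbeats 1000000
universe u

open CategoryTheory CategoryTheory.Limits AlgebraicGeometry MonoidalCategory CartesianMonoidalCategory MonObj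
open Groth.L25 Groth.L14 Groth.L15.TypeRLe Groth.L14.BorelLoc

noncomputable section

namespace Groth.L15.TypeRConj

variable {S : Scheme.{u}} {G H H' : Over S} [GrpObj G] [GrpObj H] [GrpObj H']

/-- a smooth subgroup with connected fibres containing a maximal torus is of type (R) -/
theorem isTypeR_of_torus {T : Over S} [GrpObj T] [Smooth G.hom] [QuasiCompact G.hom] {i : H ⟶ G}
    (hi : RedSub.IsSubgrp i) [Smooth H.hom] [QuasiCompact H.hom] (hconn : RedSub.HasConnectedFibres H) (t : T ⟶ H)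
    (hT : Red.IsMaximalTorus (t ≫ i)) : RedSub.IsTypeR i := by
  haveI := hi.1; haveI := hi.2; haveI := hT.1
  haveI : Mono i := Over.mono_of_mono_left i
  haveI : IsMonHom t := Killing.isMonHom_of_comp_mono t i
  refine ⟨hi, inferInstance, inferInstance, hconn, fun s => ?_⟩
  refine ⟨Red.geomFibre s T, inferInstance, (Over.pullback (Red.geomPt s)).map t,
    Groth.L25.MonoClosed.isMonHom_pullbackMap _ _, ?_⟩
  rw [← Functor.map_comp]
  exact Groth.L08.Borel.isMaximalTorus_bc hT _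

/-- subgroups of type (R) are stable under base change -/
theorem isTypeR_bc {V : Scheme.{u}} (hG : Red.IsReductive G) (f : V ⟶ S) (i : H ⟶ G) (hH : RedSub.IsTypeR i) :
    RedSub.IsTypeR ((Over.pullback f).map i) := by
  haveI := hH.1.1
  haveI : IsMonHom ((Over.pullback f).map i) := Groth.L25.MonoClosed.isMonHom_pullbackMap _ _
  refine ⟨⟨inferInstance, MorphismProperty.overPullbackMap (P := @IsImmersion) f i hH.1.2⟩,
    MorphismProperty.pullback_snd (P := @Smooth) _ _ hH.2.1,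
    MorphismProperty.pullback_snd (P := @QuasiCompact) _ _ hH.2.2.1,
    fun v => Groth.L25.Extension.isConnected_fibre_bc f H hH.2.2.2.1 v, fun v => ?_⟩
  obtain ⟨T, gT, t, ht⟩ := hasMaxTorusFibres_bc hG hH f v
  haveI := ht.1
  haveI := hH.1.2
  haveI : Mono i := Over.mono_of_mono_left i
  haveI : Mono ((Over.pullback (Red.geomPt v)).map ((Over.pullback f).map i)) := by
    haveI : Mono ((Over.pullback f).map i) := Functor.map_mono _ _
    exact Functor.map_mono _ _
  haveI : IsMonHom ((Over.pullback (Red.geomPt v)).map ((Over.pullback f).map i)) :=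
    Groth.L25.MonoClosed.isMonHom_pullbackMap _ _
  exact ⟨T, gT, t, Killing.isMonHom_of_comp_mono t ((Over.pullback (Red.geomPt v)).map ((Over.pullback f).map i)),
    Groth.L08.Borel.isMaximalTorus_of_isMaxTorus ht⟩

/-- conjugate geometric fibres can be conjugated by a point normalising a common maximal torus -/
theorem exists_normalizing_point {T : Over S} [GrpObj T] (hG : Red.IsReductive G) (i : H ⟶ G) (i' : H' ⟶ G)
    (hH' : RedSub.IsTypeR i') (iT : T ⟶ G) (hT : Red.IsMaximalTorus iT) (t : T ⟶ H) (ht : t ≫ i = iT)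
    (t' : T ⟶ H') (ht' : t' ≫ i' = iT) (s : S)
    (hconj : ∃ g : 𝟙_ _ ⟶ Red.geomFibre s G,
      RedSub.ConjEq ((Over.pullback (Red.geomPt s)).map i) ((Over.pullback (Red.geomPt s)).map i') g) :
    ∃ g : Over.mk (Red.geomPt s) ⟶ G, RedSub.ConjEq i i' g ∧ RedSub.ConjEq iT iT g := by
  obtain ⟨g, hg⟩ := hconj
  haveI := hH'.1.1; haveI := hH'.1.2; haveI := hH'.2.1; haveI := hH'.2.2.1
  let F := Over.pullback (Red.geomPt s)
  haveI : Smooth (Red.geomFibre s H').hom := inferInstanceAs (Smooth (pullback.snd H'.hom (Red.geomPt s)))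
  haveI : QuasiCompact (Red.geomFibre s H').hom := inferInstanceAs (QuasiCompact (pullback.snd H'.hom (Red.geomPt s)))
  haveI : IsMonHom (F.map i') := Groth.L25.MonoClosed.isMonHom_pullbackMap _ _
  haveI : Mono (F.map i') := by
    haveI : Mono i' := Over.mono_of_mono_left i'
    exact Functor.map_mono _ _
  haveI := hG.1; haveI := hG.2.1
  have hTs := Groth.L08.Borel.isMaximalTorus_bc hT (Red.geomPt s)
  haveI : Smooth (Red.geomFibre s G).hom := inferInstanceAs (Smooth (pullback.snd G.hom (Red.geomPt s)))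
  -- the conjugate torus inside the second subgroup
  obtain ⟨a, ha⟩ := (hg _ (toUnit (Red.geomFibre s T))).1 (F.map t)
  let t₁ := a
  have ht₁ : t₁ ≫ F.map i' = F.map iT ≫ Chev.inner g := by
    rw [← ha, Chev.comp_inner, ← F.map_comp, ht]
  have ht₂ : F.map t' ≫ F.map i' = F.map iT := (F.map_comp _ _).symm.trans (congrArg F.map ht')
  have hc := Groth.L08.Borel.isMaximalTorus_conj hTs g
  rw [← Chev.comp_inner, ← ht₁] at hc
  haveI := hc.1; haveI := hTs.1
  haveI : IsMonHom t₁ := Killing.isMonHom_of_comp_mono t₁ (F.map i')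
  haveI : IsMonHom (F.map t' ≫ F.map i') := by rw [ht₂]; infer_instance
  haveI : IsMonHom (F.map t') := Killing.isMonHom_of_comp_mono _ (F.map i')
  obtain ⟨h, e, he⟩ := Groth.L08.Borel.exists_maxTorus_conj_any
    (Groth.L08.Borel.isMaxTorus_of_isMaximalTorus (Killing.isMaximalTorus_of_comp t₁ (F.map i') hc))
    (Groth.L08.Borel.isMaxTorus_of_isMaximalTorus (Killing.isMaximalTorus_of_comp (F.map t') (F.map i') (by rw [ht₂]; exact hTs)))
  let n := (h ≫ F.map i') * g
  have h1 : RedSub.ConjEq (F.map i) (F.map i') n := conjEq_trans hg (Killing.conjEq_self (F.map i') h)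
  have h2 : RedSub.ConjEq (F.map iT) (F.map iT) n := by
    refine conjEq_trans (i' := F.map iT ≫ Chev.inner g) (Killing.conjEq_inner' _ g) (Killing.conjEq_of_conjBy ⟨e, ?_⟩)
    have e1 := congrArg (· ≫ F.map i') he
    simp only [Category.assoc, ht₂, Groth.L08.Borel.conjBy_comp] at e1
    rw [e1, ← ht₁]
  exact ⟨_, conjEq_pointOf h1, conjEq_pointOf h2⟩

/-- the case of a common maximal torus -/
theorem conjLoc_torus {T : Over S} [GrpObj T] (hG : Red.IsReductive G) (i : H ⟶ G) (i' : H' ⟶ G)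
    (hH : RedSub.IsTypeR i) (hH' : RedSub.IsTypeR i') (iT : T ⟶ G) (hT : Red.IsMaximalTorus iT) (t : T ⟶ H)
    (ht : t ≫ i = iT) (t' : T ⟶ H') (ht' : t' ≫ i' = iT) (s : S)
    (hconj : ∃ g : 𝟙_ _ ⟶ Red.geomFibre s G,
      RedSub.ConjEq ((Over.pullback (Red.geomPt s)).map i) ((Over.pullback (Red.geomPt s)).map i') g) :
    ConjLoc i i' s := by
  haveI := hG.1; haveI := hG.2.1
  haveI := hH.1.1; haveI := hH.1.2; haveI := hH.2.1; haveI := hH.2.2.1
  haveI := hH'.1.1; haveI := hH'.1.2; haveI := hH'.2.1; haveI := hH'.2.2.1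
  haveI := hT.1; haveI := hT.2.1
  haveI : IsSeparated G.hom := inferInstance
  have hl := Groth.L25.Locus.locally_of_multTypeFT (Groth.L25.Locus.isMultTypeFT_of_isTorus hT.2.2.1)
  obtain ⟨-, N, gN, nG, hN, hNcl, hNs⟩ := Groth.Agent.S3006.result S G T iT
    (Groth.L25.Locus.isClosedImmersion_of_mono hl iT) hT.2.2.1
  obtain ⟨g₀, hg₀, hn₀⟩ := exists_normalizing_point hG i i' hH' iT hT t ht t' ht' s hconj
  obtain ⟨z₀, hz₀⟩ := (hN.2.2 _ g₀).2 fun X x a => ⟨(hn₀ X x).1 a, (hn₀ X x).2 a⟩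
  -- the universal normalising point
  let j : N.left ⟶ S := N.hom
  have hnN : RedSub.ConjEq iT iT (nG : Over.mk j ⟶ G) := fun X x =>
    have hh := (hN.2.2 N nG).1 ⟨𝟙 N, Category.id_comp _⟩ X x
    ⟨fun a => (hh a).1, fun a => (hh a).2⟩
  let g₁ : 𝟙_ (Over N.left) ⟶ Red.bc j G := Groth.L25.Locus.sectionOf j nG
  have hnT := conjEq_sectionOf hnN
  haveI := Chev.isMonHom_inner g₁
  haveI := Chev.isIso_inner g₁
  haveI : IsIso (Chev.inner g₁).left := inferInstanceAs (IsIso ((Over.forget _).map (Chev.inner g₁)))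
  haveI : IsMonHom ((Over.pullback j).map i) := Groth.L25.MonoClosed.isMonHom_pullbackMap _ _
  haveI : IsMonHom ((Over.pullback j).map i') := Groth.L25.MonoClosed.isMonHom_pullbackMap _ _
  let h₁ : Red.bc j H ⟶ Red.bc j G := (Over.pullback j).map i ≫ Chev.inner g₁
  let h₁' : Red.bc j H' ⟶ Red.bc j G := (Over.pullback j).map i'
  have hTj := Groth.L08.Borel.isMaximalTorus_bc hT j
  haveI : Smooth (Red.bc j G).hom := MorphismProperty.pullback_snd (P := @Smooth) _ _ hG.2.1
  haveI : IsAffineHom (Red.bc j G).hom := MorphismProperty.pullback_snd (P := @IsAffineHom) _ _ hG.1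
  haveI : Smooth (Red.bc j H).hom := MorphismProperty.pullback_snd (P := @Smooth) _ _ hH.2.1
  haveI : Smooth (Red.bc j H').hom := MorphismProperty.pullback_snd (P := @Smooth) _ _ hH'.2.1
  haveI : QuasiCompact (Red.bc j H).hom := MorphismProperty.pullback_snd (P := @QuasiCompact) _ _ hH.2.2.1
  haveI : QuasiCompact (Red.bc j H').hom := MorphismProperty.pullback_snd (P := @QuasiCompact) _ _ hH'.2.2.1
  haveI : IsImmersion ((Over.pullback j).map i).left := MorphismProperty.overPullbackMap (P := @IsImmersion) j i hH.1.2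
  have hh₁' : IsImmersion h₁'.left := MorphismProperty.overPullbackMap (P := @IsImmersion) j i' hH'.1.2
  have hh₁ : IsImmersion h₁.left := by
    show IsImmersion (((Over.pullback j).map i).left ≫ (Chev.inner g₁).left)
    infer_instance
  -- the torus in the conjugate
  obtain ⟨a, ha⟩ := (hnT _ (toUnit (Red.bc j T))).2 (𝟙 _)
  rw [Category.id_comp] at ha
  have ht₁ : (a ≫ (Over.pullback j).map t) ≫ h₁ = (Over.pullback j).map iT := by
    show (a ≫ (Over.pullback j).map t) ≫ (Over.pullback j).map i ≫ Chev.inner g₁ = _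
    rw [Category.assoc, ← Functor.map_comp_assoc, ht, ← Category.assoc, Chev.comp_inner, ← ha]
    exact (by intro p q; group : ∀ p : Red.bc j T ⟶ Red.bc j G, ∀ q : Red.bc j T ⟶ Red.bc j G, p * (p⁻¹ * q * p) * p⁻¹ = q) _ _
  have ht₁' : (Over.pullback j).map t' ≫ h₁' = (Over.pullback j).map iT :=
    ((Over.pullback j).map_comp _ _).symm.trans (congrArg _ ht')
  have hR : RedSub.IsTypeR h₁ := isTypeR_of_torus ⟨inferInstanceAs (IsMonHom (_ ≫ _)), hh₁⟩
    (fun v => Groth.L25.Extension.isConnected_fibre_bc j H hH.2.2.2.1 v) _ (by rw [ht₁]; exact hTj)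
  have hR' : RedSub.IsTypeR h₁' := isTypeR_of_torus ⟨inferInstance, hh₁'⟩
    (fun v => Groth.L25.Extension.isConnected_fibre_bc j H' hH'.2.2.2.1 v) _ (by rw [ht₁']; exact hTj)
  have hGj := Groth.L14.Splitting.isReductive_bc hG j
  let C : N.left.Opens := ⟨_, (isClopen_le hGj _ hTj h₁ h₁' hR hR' _ _ ht₁ ht₁').2.inter
    (isClopen_le hGj _ hTj h₁' h₁ hR' hR _ _ ht₁' ht₁).2⟩
  have hle := le_of_fibres hGj _ hTj h₁ h₁' hR hR' _ _ ht₁ ht₁' C fun y hy => hy.1
  have hle' := le_of_fibres hGj _ hTj h₁' h₁ hR' hR _ _ ht₁' ht₁ C fun y hy => hy.2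
  -- the given point lies in the good locus
  let y : N.left := z₀.left (IsLocalRing.closedPoint _)
  have hle₀ := le_of_conj j i i' (z := z₀.left) (nG : Over.mk j ⟶ G) (by
    have e : Over.mk (z₀.left ≫ j) ⟶ Over.mk (Red.geomPt s) := Over.homMk (𝟙 _) (by
      show 𝟙 _ ≫ Red.geomPt s = z₀.left ≫ N.hom
      rw [Category.id_comp, Over.w z₀]
      rfl)
    intro X x
    obtain ⟨x', hx'⟩ : ∃ x' : X ⟶ Over.mk (Red.geomPt s), x' ≫ g₀ =
        x ≫ (Over.homMk z₀.left rfl : Over.mk (z₀.left ≫ j) ⟶ Over.mk j) ≫ nG := by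
      refine ⟨Over.homMk x.left ((congrArg (x.left ≫ ·) (Over.w z₀).symm).trans (Over.w x)), ?_⟩
      rw [← hz₀, ← Category.assoc, ← Category.assoc x]
      congr 1
    rw [← hx']
    exact hg₀ X x')
  have hy : y ∈ C := by
    have hm : Red.geomPt y (IsLocalRing.closedPoint _) = z₀.left (IsLocalRing.closedPoint _) := geomPt_closedPoint y _
    obtain ⟨q, hq, -⟩ := Scheme.Pullback.exists_preimage_pullback (f := Red.geomPt y) (g := z₀.left) _ _ hm
    haveI := hh₁; haveI := hh₁'
    constructor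
    all_goals
      refine le_of_local fun x => ⟨_, pullback.fst (Red.geomPt y) z₀.left, flat_to_field _,
        ⟨q, hq.trans (Subsingleton.elim (α := PrimeSpectrum _) _ _)⟩, ?_⟩
      rw [pullback.condition]
    · exact le_comp hle₀.1 _
    · exact le_comp hle₀.2 _
  -- an etale section through it
  haveI : Smooth (C.ι ≫ j) := inferInstance
  obtain ⟨U, e, u₀, w, he, heu, hw⟩ := Groth.L24.Boot.exists_etale_nhd_section (C.ι ≫ j) ⟨y, hy⟩
  refine ⟨U, e, he, ⟨u₀, ?_⟩, Groth.L25.Locus.sectionOf e ((Over.homMk (w ≫ C.ι) (by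
    show (w ≫ C.ι) ≫ j = e; rw [Category.assoc, hw]) : Over.mk e ⟶ Over.mk j) ≫ nG), conjEq_sectionOf ?_⟩
  · refine heu.trans ?_
    show (C.ι ≫ j) ⟨y, hy⟩ = s
    rw [Scheme.Hom.comp_apply]
    show (z₀.left ≫ N.hom) _ = s
    rw [Over.w z₀]
    exact geomPt_closedPoint s _
  · have hq := conj_of_le j i i' (z := w ≫ C.ι) nG (le_comp hle w) (le_comp hle' w)
    intro X x
    obtain ⟨x', hx'⟩ : ∃ x' : X ⟶ Over.mk ((w ≫ C.ι) ≫ j),
        x' ≫ (Over.homMk (w ≫ C.ι) rfl : Over.mk ((w ≫ C.ι) ≫ j) ⟶ Over.mk j) ≫ nG =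
        x ≫ (Over.homMk (w ≫ C.ι) (by show (w ≫ C.ι) ≫ j = e; rw [Category.assoc, hw]) : Over.mk e ⟶ Over.mk j) ≫ nG := by
      refine ⟨Over.homMk x.left (by show x.left ≫ (w ≫ C.ι) ≫ j = X.hom; rw [Category.assoc w, hw]; exact Over.w x), ?_⟩
      rw [← Category.assoc, ← Category.assoc x]
      congr 1
    rw [← hx']
    exact hq X x'

/-- the hypothesis of geometric conjugacy after base change -/
theorem exists_conj_bc {V : Scheme.{u}} (f : V ⟶ S) (i : H ⟶ G) (i' : H' ⟶ G) (v : V)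
    (h : ∃ g : 𝟙_ _ ⟶ Red.geomFibre (f v) G,
      RedSub.ConjEq ((Over.pullback (Red.geomPt (f v))).map i) ((Over.pullback (Red.geomPt (f v))).map i') g) :
    ∃ g : 𝟙_ _ ⟶ Red.geomFibre v (Red.bc f G), RedSub.ConjEq ((Over.pullback (Red.geomPt v)).map ((Over.pullback f).map i))
      ((Over.pullback (Red.geomPt v)).map ((Over.pullback f).map i')) g := by
  obtain ⟨g, hg⟩ := h
  obtain ⟨θ, hθ⟩ := Groth.L08.Borel.exists_geomPt_map f v
  let Y : Over V := Over.mk (Red.geomPt v)
  let p : Over.mk (Y.hom ≫ f) ⟶ Over.mk (Red.geomPt (f v)) := Over.homMk θ hθ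
  exact ⟨_, conjEq_sectionOf (g := NilAction.ofBase f (Y := Y) (p ≫ pointOf _ g))
    (conjEq_ofBase fun X x => by
      have e : x ≫ p ≫ pointOf _ g = (x ≫ p) ≫ pointOf _ g := (Category.assoc _ _ _).symm
      rw [e]
      exact conjEq_pointOf hg X (x ≫ p))⟩

theorem conjEq_inner_symm {B : Over S} (i : B ⟶ G) (g : 𝟙_ _ ⟶ G) : RedSub.ConjEq (i ≫ Chev.inner g) i g⁻¹ := by
  intro X x
  obtain rfl : x = toUnit X := toUnit_unique _ _
  have e : ∀ h : X ⟶ B, h ≫ i ≫ Chev.inner g = (toUnit X ≫ g) * (h ≫ i) * (toUnit X ≫ g)⁻¹ := fun h => by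
    rw [← Category.assoc, Chev.comp_inner]
  exact ⟨fun h => ⟨h, by rw [e h, GrpObj.comp_inv]; group⟩, fun h => ⟨h, by rw [e h, GrpObj.comp_inv]; group⟩⟩

/-- the case of given maximal tori -/
theorem conjLoc_tori {T T' : Over S} [GrpObj T] [GrpObj T'] (hG : Red.IsReductive G) (i : H ⟶ G) (i' : H' ⟶ G)
    (hH : RedSub.IsTypeR i) (hH' : RedSub.IsTypeR i') (t : T ⟶ H) (hT : Red.IsMaximalTorus (t ≫ i)) (t' : T' ⟶ H')
    (hT' : Red.IsMaximalTorus (t' ≫ i')) (s : S)
    (hconj : ∀ x : S, ∃ g : 𝟙_ _ ⟶ Red.geomFibre x G,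
      RedSub.ConjEq ((Over.pullback (Red.geomPt x)).map i) ((Over.pullback (Red.geomPt x)).map i') g) :
    ConjLoc i i' s := by
  haveI := hG.1; haveI := hG.2.1
  obtain ⟨V, f, hf, hsurj, g, φ, hφ⟩ := Groth.Agent.S4116.result S G T T' (t ≫ i) (t' ≫ i') hT hT'
  haveI := hf; haveI := hsurj
  obtain ⟨v, rfl⟩ := f.surjective s
  refine conjLoc_bc f i i' v (conjLoc_of_inner _ _ g v ?_)
  have hGf := Groth.L14.Splitting.isReductive_bc hG f
  haveI := hGf.1; haveI := hGf.2.1
  haveI := hH.1.1; haveI := hH.1.2; haveI := hH.2.1; haveI := hH.2.2.1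
  haveI := hH'.1.1; haveI := hH'.1.2; haveI := hH'.2.1; haveI := hH'.2.2.1
  haveI := Chev.isMonHom_inner g
  haveI := Chev.isIso_inner g
  haveI : IsIso (Chev.inner g).left := inferInstanceAs (IsIso ((Over.forget _).map (Chev.inner g)))
  haveI : IsMonHom ((Over.pullback f).map i) := Groth.L25.MonoClosed.isMonHom_pullbackMap _ _
  haveI : IsMonHom ((Over.pullback f).map i') := Groth.L25.MonoClosed.isMonHom_pullbackMap _ _
  haveI : Smooth (Red.bc f H).hom := MorphismProperty.pullback_snd (P := @Smooth) _ _ hH.2.1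
  haveI : Smooth (Red.bc f H').hom := MorphismProperty.pullback_snd (P := @Smooth) _ _ hH'.2.1
  haveI : QuasiCompact (Red.bc f H).hom := MorphismProperty.pullback_snd (P := @QuasiCompact) _ _ hH.2.2.1
  haveI : QuasiCompact (Red.bc f H').hom := MorphismProperty.pullback_snd (P := @QuasiCompact) _ _ hH'.2.2.1
  haveI : IsImmersion ((Over.pullback f).map i).left := MorphismProperty.overPullbackMap (P := @IsImmersion) f i hH.1.2
  have hi' : IsImmersion ((Over.pullback f).map i').left :=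
    MorphismProperty.overPullbackMap (P := @IsImmersion) f i' hH'.1.2
  have hi : IsImmersion ((Over.pullback f).map i ≫ Chev.inner g).left := by
    show IsImmersion (((Over.pullback f).map i).left ≫ (Chev.inner g).left)
    infer_instance
  have hTf := Groth.L08.Borel.isMaximalTorus_bc hT' f
  have ht₁ : (φ.inv ≫ (Over.pullback f).map t) ≫ (Over.pullback f).map i ≫ Chev.inner g =
      (Over.pullback f).map (t' ≫ i') := by
    simp only [Category.assoc]
    rw [← Functor.map_comp_assoc, Chev.comp_inner, hφ, Iso.inv_hom_id_assoc]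
  have ht₂ : (Over.pullback f).map t' ≫ (Over.pullback f).map i' = (Over.pullback f).map (t' ≫ i') :=
    ((Over.pullback f).map_comp _ _).symm
  refine conjLoc_torus hGf _ _
    (isTypeR_of_torus ⟨inferInstance, hi⟩ (fun x => Groth.L25.Extension.isConnected_fibre_bc f H hH.2.2.2.1 x) _
      (by rw [ht₁]; exact hTf))
    (isTypeR_of_torus ⟨inferInstance, hi'⟩ (fun x => Groth.L25.Extension.isConnected_fibre_bc f H' hH'.2.2.2.1 x) _
      (by rw [ht₂]; exact hTf)) _ hTf _ ht₁ _ ht₂ v ?_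
  obtain ⟨n, hn⟩ := exists_conj_bc f i i' v (hconj _)
  obtain ⟨g', hg'⟩ := map_inner (Red.geomPt v) g
  refine ⟨n * g'⁻¹, ?_⟩
  rw [Functor.map_comp, hg']
  exact conjEq_trans (conjEq_inner_symm _ g') hn

/-- **Subgroups of type (R) with conjugate geometric fibres are conjugate etale locally.** -/
theorem conjLoc_typeR (hG : Red.IsReductive G) (i : H ⟶ G) (i' : H' ⟶ G) (hH : RedSub.IsTypeR i)
    (hH' : RedSub.IsTypeR i')
    (hconj : ∀ x : S, ∃ g : 𝟙_ _ ⟶ Red.geomFibre x G,
      RedSub.ConjEq ((Over.pullback (Red.geomPt x)).map i) ((Over.pullback (Red.geomPt x)).map i') g) (s : S) :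
    ConjLoc i i' s := by
  obtain ⟨V, f, hf, ⟨v, hv⟩, T, gT, t, -, hT⟩ := exists_maxTorus hG i hH s
  haveI := hf
  have hv' : f v = s := hv
  subst hv'
  refine conjLoc_bc f i i' v ?_
  have hGf := Groth.L14.Splitting.isReductive_bc hG f
  haveI := hG.1; haveI := hG.2.1; haveI := hGf.1; haveI := hGf.2.1
  have bcR : ∀ {X : Over S} [GrpObj X] (k : X ⟶ G), RedSub.IsTypeR k → RedSub.IsTypeR ((Over.pullback f).map k) :=
    fun k hk => isTypeR_bc hG f k hk
  have hH₁ := bcR i hH
  have hH₁' := bcR i' hH'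
  obtain ⟨W, f', hf', ⟨w, hw⟩, T', gT', t', -, hT'⟩ := exists_maxTorus hGf ((Over.pullback f).map i') hH₁' v
  haveI := hf'
  have hw' : f' w = v := hw
  subst hw'
  refine conjLoc_bc f' _ _ w ?_
  refine conjLoc_tori (Groth.L14.Splitting.isReductive_bc hGf f') _ _
    (isTypeR_bc hGf f' _ hH₁)
    (isTypeR_bc hGf f' _ hH₁') ((Over.pullback f').map t) ?_ t' hT' w
    fun x => exists_conj_bc f' _ _ x (exists_conj_bc f i i' _ (hconj _))
  rw [← Functor.map_comp]
  exact Groth.L08.Borel.isMaximalTorus_bc hT f'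

end Groth.L15.TypeRConj

end
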