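import Groth.Agent.S8443
import Groth.Agent.L08.TorusWeights.TypeRTrans
import Groth.Agent.L08.TorusWeights.Parabolic
import Groth.Agent.L08.Borel.RedRankTorus
import Groth.Agent.L14.Splitting.Torus
import Groth.Agent.L14.Splitting.Etale
import Groth.Agent.L08.Borel.CartanNhd
import Groth.Agent.L08.Borel.IsoBase

/-!
A subgroup of type (R) contains a maximal torus locally for the etale topology.
-/

set_option autoImplicit false
set_option linter.style.haveILetI false
set_option linter.unusedSectionVars false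
set_option backward.isDefEq.respectTransparency.types false
set_option maxHeartbeats 1000000
universe u

open CategoryTheory CategoryTheory.Limits AlgebraicGeometry MonoidalCategory CartesianMonoidalCategory MonObj
open Groth.L08.TorusWeights

noncomputable section

namespace Groth.L15.TypeRConj

variable {S : Scheme.{u}}

/-- the geometric fibres of a subgroup of type (R) contain maximal tori, also after base change -/
theorem hasMaxTorusFibres_bc {G H : Over S} [GrpObj G] [GrpObj H] (hG : Red.IsReductive G) {i : H ⟶ G}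
    (hH : RedSub.IsTypeR i) {V : Scheme.{u}} (f : V ⟶ S) : HasMaxTorusFibres ((Over.pullback f).map i) := by
  haveI := hG.1; haveI := hG.2.1
  haveI : QuasiCompact G.hom := inferInstance
  haveI := hH.1.1
  refine Groth.L08.TorusWeights.hasMaxTorusFibres_bc (fun s => ?_) f
  obtain ⟨T, gT, t, ht, hmax⟩ := hH.2.2.2.2 s
  exact ⟨T, gT, t, Groth.L08.Borel.isMaxTorus_of_isMaximalTorus hmax⟩

/-- a maximal torus of a subgroup with maximal tori of the ambient group in its fibres is maximal there -/
theorem isMaximalTorus_comp {G H T : Over S} [GrpObj G] [GrpObj H] [GrpObj T] [Smooth G.hom] [Smooth H.hom]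
    [QuasiCompact H.hom] (h : H ⟶ G) [IsMonHom h] [Mono h] (hm : HasMaxTorusFibres h) {b : T ⟶ H}
    (hb : Red.IsMaximalTorus b) : Red.IsMaximalTorus (b ≫ h) := by
  haveI := hb.1; haveI := hb.2.1
  refine ⟨inferInstance, mono_comp _ _, hb.2.2.1, fun s T' _ a _ _ f hT' hf => ?_⟩
  obtain ⟨T₀, gT₀, t₀, ht₀⟩ := hm s
  let F := Over.pullback (Red.geomPt s)
  haveI : IsMonHom (F.map h) := Groth.L25.MonoClosed.isMonHom_pullbackMap _ _
  haveI : IsMonHom (F.map b) := Groth.L25.MonoClosed.isMonHom_pullbackMap _ _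
  haveI : Mono (F.map h) := Functor.map_mono _ _
  haveI : Mono (F.map b) := Functor.map_mono _ _
  haveI : Mono h.left := inferInstanceAs (Mono ((Over.forget S).map h))
  haveI : Smooth (Red.geomFibre s H).hom := inferInstanceAs (Smooth (pullback.snd H.hom (Red.geomPt s)))
  haveI : QuasiCompact (Red.geomFibre s H).hom := inferInstanceAs (QuasiCompact (pullback.snd H.hom (Red.geomPt s)))
  haveI : IsMonHom t₀ := by
    haveI := ht₀.1
    exact Groth.L08.TorusWeights.isMonHom_of_mono t₀ (F.map h) _ rfl
  have hbs : AGF.IsMaxTorus (F.map b) :=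
    ⟨inferInstance, inferInstance, Groth.L25.Locus.isTorus_bc hb.2.2.1 _,
      fun T₁ _ a _ _ f h₁ hf => hb.2.2.2 s T₁ a f h₁ hf⟩
  have := isMaxTorus_comp_of_exists (F.map h) hbs t₀ ht₀
  exact this.2.2.2 T' a f hT' (hf.trans (F.map_comp b h))

/-- **A subgroup of type (R) contains a maximal torus etale locally.** -/
theorem exists_maxTorus {G H : Over S} [GrpObj G] [GrpObj H] (hG : Red.IsReductive G) (i : H ⟶ G)
    (hH : RedSub.IsTypeR i) (s : S) :
    ∃ (V : Scheme.{u}) (f : V ⟶ S) (_ : Etale f), s ∈ Set.range f.base ∧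
      ∃ (T : Over V) (_ : GrpObj T) (t : T ⟶ Red.bc f H), IsMonHom t ∧
        Red.IsMaximalTorus (t ≫ (Over.pullback f).map i) := by
  haveI := hG.1; haveI := hG.2.1
  haveI := hH.1.1; haveI := hH.1.2; haveI := hH.2.1; haveI := hH.2.2.1
  haveI : QuasiCompact G.hom := inferInstance
  haveI : IsSeparated G.hom := inferInstance
  haveI : Mono i := Over.mono_of_mono_left i
  obtain ⟨S₁, π, hπ, hπs, T₁, gT₁, t₁, ht₁⟩ := Groth.L08.Borel.hasMaxTorusEtaleLocally
    (redRankLocallyConstant_of_isReductive hG)
  obtain ⟨S₂, F, hF, hFs, B, gB, b, hb⟩ := Groth.L08.Borel.exists_maximalTorus_sub π i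
    (fun x => Groth.L08.Borel.connectedSpace_bc_point H hH.2.2.2.1 _) (fun x => by
      obtain ⟨T, gT, t, htm, hmax⟩ := hH.2.2.2.2 x
      have hsc := Groth.L14.Splitting.selfCentral (Groth.L14.Splitting.isReductive_bc hG (Red.geomPt x)) hmax
      exact ⟨T, gT, t, hmax.1, hmax.2.1, T, gT, _, hmax, hsc⟩) ht₁
  haveI := hπ; haveI := hπs; haveI := hF; haveI := hFs
  let f := F ≫ π
  haveI : Surjective f := inferInstanceAs (Surjective (F ≫ π))
  obtain ⟨q, hq⟩ := f.surjective s
  haveI := hb.1
  haveI : Smooth (Red.bc f G).hom := inferInstanceAs (Smooth (pullback.snd G.hom f))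
  haveI : Smooth (Red.bc f H).hom := inferInstanceAs (Smooth (pullback.snd H.hom f))
  haveI : QuasiCompact (Red.bc f H).hom := inferInstanceAs (QuasiCompact (pullback.snd H.hom f))
  haveI : IsMonHom ((Over.pullback f).map i) := Groth.L25.MonoClosed.isMonHom_pullbackMap _ _
  haveI : Mono ((Over.pullback f).map i) := Functor.map_mono _ _
  exact ⟨S₂, f, inferInstanceAs (Etale (F ≫ π)), ⟨q, hq⟩, B, gB, b, hb.1,
    isMaximalTorus_comp _ (hasMaxTorusFibres_bc hG hH f) hb⟩

end Groth.L15.TypeRConj

end
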